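import Mathlib
import Cfsg.Agent.TitsThree.WittWeyl
import Cfsg.Agent.TitsThree.WBridge
import Cfsg.Agent.TitsThree.SpGen
import Cfsg.Agent.TitsThree.FrameCN
import Cfsg.Agent.H439.CC.Mult_m3
import Cfsg.Agent.H769.OZ.Levi
import Cfsg.Agent.Prune
set_option linter.all false
prune_inst 0x7ffdfff8bfbdfddfdfff7fffa7decffdfdffbfffe6fffd7bffe2efffffff7f8eefedffad6ffad9fe5fd7693454f87b53f9ffefffe36bde7ffffd5ff41ffbffcffdf7b50951ff8cb40fbc0fff03f0778e7f3fffffffffffffffffffffffffffbeffbfffffffff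
open scoped Cfsg.Agent.FastGrp

-- part: H749/PF/Trans
section
/-!
# Transitivity of the group generated by the root elements of a Witt frame on totally singular flags (helper749)

`Sing Fr` : a set of singular vectors for a Witt frame (any characteristic; symplectic, unitary, orthogonal, also
quadratic forms in characteristic two).
`GJ Fr j` : the group generated by the root elements with indices `≥ j`; `RG Fr = GJ Fr 0`.
`EE Fr i` : the span of the `b (l, true)`, `l < i`.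

`exists_line` : every singular `v ≠ 0` orthogonal to the `b a`, `a.1 < j` is, up to a scalar, the image of
`b (j, true)` under an element of `GJ Fr j`.
`flag_trans` : the group `RG Fr` is transitive on the totally singular flags of type `K`, for every `K ⊆ {0, .., n}`
(`n ∉ K` if there is no admissible pair with `c ≠ 0`, i. e. for `O⁺`).
-/

set_option autoImplicit false

namespace Cfsg.Agent.H749.PF

open Cfsg.Agent.TitsThree.Siegel Cfsg.Agent.TitsThree.WittFrame Cfsg.Agent.TitsThree.WittWeyl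

variable {F : Type*} [Field F] {V : Type*} [AddCommGroup V] [Module F V] {H : HForm F V} {n : ℕ}

/-- Singular vectors for a Witt frame. -/
structure Sing (Fr : Frame H (Fin n)) where
  S : V → Prop
  smul : ∀ (c : F) {v}, S v → S (c • v)
  add : ∀ {v w}, S v → S w → H.h v w = 0 → S (v + w)
  b : ∀ x, S (Fr.b x)
  X : ∀ {x y} (t : F) {v}, x.1 ≠ y.1 → S v → S (Fr.X x y t v)
  Z : ∀ x p {v}, S v → S (Fr.Z x p v)
  V0 : ∀ v, (∀ x, H.h v (Fr.b x) = 0) → v ∈ Fr.V0
  aniso : ∀ w ∈ Fr.V0, S w → w = 0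
  ok : ∀ w ∈ Fr.V0, ∃ c, Fr.ok w c
  tr : ∀ x (δ : F), S (Fr.b (neg x) + δ • Fr.b x) → Fr.ok 0 (δ * (Fr.η x)⁻¹)

variable (Fr : Frame H (Fin n))

/-- the group generated by the root elements with indices `≥ j` -/
def GJ (j : ℕ) : Subgroup (V ≃ₗ[F] V) :=
  Subgroup.closure ({g | ∃ (a b : Fin n × Bool) (t : F), j ≤ (a.1 : ℕ) ∧ j ≤ (b.1 : ℕ) ∧ a.1 ≠ b.1 ∧ g = Fr.X a b t} ∪
    {g | ∃ (a : Fin n × Bool) (p : Fr.Adm), j ≤ (a.1 : ℕ) ∧ g = Fr.Z a p})

/-- the group generated by the root elements -/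
abbrev RG : Subgroup (V ≃ₗ[F] V) := GJ Fr 0

/-- the span of the `b (l, true)`, `l < i` -/
def EE (i : ℕ) : Submodule F V := Submodule.span F {v | ∃ l : Fin n, (l : ℕ) < i ∧ v = Fr.b (l, true)}

variable {Fr} (Sg : Sing Fr)

theorem X_mem {j : ℕ} {a b : Fin n × Bool} (ha : j ≤ (a.1 : ℕ)) (hb : j ≤ (b.1 : ℕ)) (hab : a.1 ≠ b.1) (t : F) :
    Fr.X a b t ∈ GJ Fr j := Subgroup.subset_closure (Or.inl ⟨a, b, t, ha, hb, hab, rfl⟩)

theorem Z_mem {j : ℕ} {a : Fin n × Bool} (ha : j ≤ (a.1 : ℕ)) (p : Fr.Adm) :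
    Fr.Z a p ∈ GJ Fr j := Subgroup.subset_closure (Or.inr ⟨a, p, ha, rfl⟩)

theorem nZ_mem {j : ℕ} {a : Fin n × Bool} (ha : j ≤ (a.1 : ℕ)) (p : Fr.Adm) : nZ Fr a p ∈ GJ Fr j := by
  rw [nZ]
  exact mul_mem (mul_mem (Z_mem ha _) (Z_mem (a := neg a) ha _)) (Z_mem ha _)

theorem nX_mem {j : ℕ} {a b : Fin n × Bool} (ha : j ≤ (a.1 : ℕ)) (hb : j ≤ (b.1 : ℕ)) (hab : a.1 ≠ b.1) (t : F) :
    nX Fr a b t ∈ GJ Fr j := by
  rw [nX]
  exact mul_mem (mul_mem (X_mem ha hb hab _) (X_mem (a := neg b) (b := neg a) hb ha hab.symm _)) (X_mem ha hb hab _)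

theorem GJ_anti {i j : ℕ} (h : i ≤ j) : GJ Fr j ≤ GJ Fr i := by
  refine Subgroup.closure_mono ?_
  rintro g (⟨a, b, t, ha, hb, hab, rfl⟩ | ⟨a, p, ha, rfl⟩)
  · exact Or.inl ⟨a, b, t, h.trans ha, h.trans hb, hab, rfl⟩
  · exact Or.inr ⟨a, p, h.trans ha, rfl⟩

theorem GJ_le {j : ℕ} {K : Subgroup (V ≃ₗ[F] V)} (hX : ∀ a b t, Fr.X a b t ∈ K) (hZ : ∀ a p, Fr.Z a p ∈ K) :
    GJ Fr j ≤ K := by
  refine (Subgroup.closure_le K).2 ?_
  rintro g (⟨a, b, t, ha, hb, hab, rfl⟩ | ⟨a, p, ha, rfl⟩)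
  · exact hX _ _ _
  · exact hZ _ _

theorem iso_of_mem {j : ℕ} {g : V ≃ₗ[F] V} (hg : g ∈ GJ Fr j) : H.IsIso g := by
  refine Subgroup.closure_induction (p := fun g _ => H.IsIso g) ?_ ?_ ?_ ?_ hg
  · rintro g (⟨a, b, t, ha, hb, hab, rfl⟩ | ⟨a, p, ha, rfl⟩)
    · exact Fr.isIso_X _ _ _
    · exact Fr.isIso_Z _ _
  · intro v w; rfl
  · intro a b _ _ ha hb
    exact HForm.IsIso.mul H ha hb
  · intro a _ ha
    exact HForm.IsIso.inv H ha

theorem b_of_mem {j : ℕ} {g : V ≃ₗ[F] V} (hg : g ∈ GJ Fr j) {c : Fin n × Bool} (hc : (c.1 : ℕ) < j) :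
    g (Fr.b c) = Fr.b c := by
  refine Subgroup.closure_induction (p := fun g _ => g (Fr.b c) = Fr.b c) ?_ ?_ ?_ ?_ hg
  · rintro g (⟨a, b, t, ha, hb, hab, rfl⟩ | ⟨a, p, ha, rfl⟩)
    · refine X_apply_of_ne Fr hab ?_ ?_ t
      · intro h
        have := congrArg (fun z => ((Prod.fst z : Fin n) : ℕ)) h
        simp only [neg_fst] at this
        omega
      · intro h
        have := congrArg (fun z => ((Prod.fst z : Fin n) : ℕ)) h
        simp only [neg_fst] at this
        omega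
    · refine Z_apply_of_ne Fr ?_ p
      intro h
      have := congrArg (fun z => ((Prod.fst z : Fin n) : ℕ)) h
      simp only [neg_fst] at this
      omega
  · rfl
  · intro a b _ _ ha hb
    change a (b (Fr.b c)) = _
    rw [hb, ha]
  · intro a _ ha
    have : a⁻¹ (a (Fr.b c)) = Fr.b c := a.symm_apply_apply _
    rwa [ha] at this

theorem EE_of_mem {j : ℕ} {g : V ≃ₗ[F] V} (hg : g ∈ GJ Fr j) {i : ℕ} (hi : i ≤ j) {v : V} (hv : v ∈ EE Fr i) :
    g v = v := by
  refine Submodule.span_induction (p := fun v _ => g v = v) ?_ ?_ ?_ ?_ hv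
  · rintro _ ⟨l, hl, rfl⟩
    exact b_of_mem hg (by simp only; omega)
  · exact map_zero g
  · intro x y _ _ hx hy
    rw [map_add, hx, hy]
  · intro c x _ hx
    rw [map_smul, hx]

include Sg

theorem Sing.iff_of_mem {j : ℕ} {g : V ≃ₗ[F] V} (hg : g ∈ GJ Fr j) (v : V) : Sg.S (g v) ↔ Sg.S v := by
  have key : ∀ g : V ≃ₗ[F] V, g ∈ GJ Fr j → ∀ v, Sg.S v → Sg.S (g v) := by
    intro g hg
    have key' : (∀ v, Sg.S v → Sg.S (g v)) ∧ (∀ v, Sg.S v → Sg.S (g⁻¹ v)) := by
      refine Subgroup.closure_induction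
        (p := fun g _ => (∀ v, Sg.S v → Sg.S (g v)) ∧ (∀ v, Sg.S v → Sg.S (g⁻¹ v))) ?_ ?_ ?_ ?_ hg
      · rintro g (⟨a, b, t, ha, hb, hab, rfl⟩ | ⟨a, p, ha, rfl⟩)
        · refine ⟨fun v => Sg.X t hab, fun v => ?_⟩
          rw [← Fr.X_neg]
          exact Sg.X _ hab
        · refine ⟨fun v => Sg.Z a p, fun v => ?_⟩
          rw [← Fr.Z_inv]
          exact Sg.Z _ _
      · refine ⟨fun v hv => hv, fun v hv => ?_⟩
        rw [inv_one]; exact hv
      · rintro a b _ _ ⟨ha, ha'⟩ ⟨hb, hb'⟩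
        refine ⟨fun v hv => ha _ (hb _ hv), fun v hv => ?_⟩
        rw [mul_inv_rev]
        exact hb' _ (ha' _ hv)
      · rintro a _ ⟨ha, ha'⟩
        refine ⟨ha', ?_⟩
        rw [inv_inv]; exact ha
    exact key'.1
  refine ⟨fun h => ?_, key g hg v⟩
  have h1 := key g⁻¹ (inv_mem hg) _ h
  have h2 : g⁻¹ (g v) = v := g.symm_apply_apply v
  rwa [h2] at h1

omit Sg

/-! ### Siegel elements -/

/-- the coordinates -/
def kap (v : V) (a : Fin n × Bool) : F := H.h v (Fr.b (neg a)) * (Fr.η (neg a))⁻¹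

theorem h_sum_left (s : Finset (Fin n × Bool)) (c : Fin n × Bool → F) (u : Fin n × Bool → V) (w : V) :
    H.h (∑ a ∈ s, c a • u a) w = ∑ a ∈ s, c a * H.h (u a) w := by
  induction s using Finset.induction_on with
  | empty => simp [H.zero_left]
  | insert a s ha ih => rw [Finset.sum_insert ha, Finset.sum_insert ha, H.add_left, H.smul_left, ih]

theorem h_kap (v : V) (c : Fin n × Bool) : H.h (∑ a, kap (Fr := Fr) v a • Fr.b a) (Fr.b c) = H.h v (Fr.b c) := by
  rw [h_sum_left, Finset.sum_eq_single (neg c)]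
  · rw [Fr.hb_neg_self, kap, neg_neg, mul_assoc, inv_mul_cancel₀ (Fr.η_ne _), mul_one]
  · intro a _ ha
    rw [Fr.hb_ne, mul_zero]
    intro h
    apply ha
    rw [h, neg_neg]
  · intro h
    exact absurd (Finset.mem_univ _) h

/-- the set of `w` such that some Siegel element `S(b x, w, c)` is in the group -/
def Ns (Fr : Frame H (Fin n)) (j : ℕ) (x : Fin n × Bool) (w : V) : Prop :=
  ∃ (c : F) (hw : H.h (Fr.b x) w = 0), H.sie (Fr.b x) w c (Fr.hb_self x) hw ∈ GJ Fr j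

theorem Ns.add {j : ℕ} {x : Fin n × Bool} {w w' : V} (h : Ns Fr j x w) (h' : Ns Fr j x w') : Ns Fr j x (w + w') := by
  obtain ⟨c, hw, hm⟩ := h
  obtain ⟨c', hw', hm'⟩ := h'
  have h1 := mul_mem hm hm'
  rw [H.sie_mul] at h1
  exact ⟨_, _, h1⟩

theorem Ns.zero {j : ℕ} {x : Fin n × Bool} : Ns Fr j x 0 :=
  ⟨0, H.zero_right _, by rw [H.sie_zero]; exact one_mem _⟩

theorem Ns.b {j : ℕ} {x a : Fin n × Bool} (hx : j ≤ (x.1 : ℕ)) (ha : j ≤ (a.1 : ℕ)) (hxa : x.1 ≠ a.1) (s : F) :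
    Ns Fr j x (s • Fr.b a) := by
  have h3 := Fr.η_ne a
  have h5 := H.ε_ne
  have e : Fr.sc a (-(H.σ (H.ε * (Fr.η a)⁻¹ * s))) = s := by
    rw [Frame.sc, map_neg, H.σσ]
    field_simp
  have h1 := X_mem (Fr := Fr) hx ha hxa (-(H.σ (H.ε * (Fr.η a)⁻¹ * s)))
  rw [Fr.X_eq hxa] at h1
  refine ⟨0, Fr.h_smul_b hxa s, ?_⟩
  rw [H.sie_congr _ _ (Fr.hb_self x) (Fr.h_smul_b hxa (Fr.sc a (-(H.σ (H.ε * (Fr.η a)⁻¹ * s))))) rfl
    (by rw [e]) rfl]
  exact h1

include Sg

theorem Sing.Ns_V0 {j : ℕ} {x : Fin n × Bool} (hx : j ≤ (x.1 : ℕ)) {w : V} (hw : w ∈ Fr.V0) : Ns Fr j x w := by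
  obtain ⟨c, hc⟩ := Sg.ok w hw
  exact ⟨c, Fr.h0 x w hw, Z_mem hx ⟨w, c, hc⟩⟩

theorem Sing.Ns_of {j : ℕ} {x : Fin n × Bool} (hx : j ≤ (x.1 : ℕ)) {w : V}
    (hw : ∀ a, (a.1 : ℕ) < j ∨ a.1 = x.1 → H.h w (Fr.b a) = 0) : Ns Fr j x w := by
  have h1 : w - ∑ a, kap (Fr := Fr) w a • Fr.b a ∈ Fr.V0 := by
    apply Sg.V0
    intro c
    rw [H.sub_left, h_kap, sub_self]
  have h2 : Ns Fr j x (∑ a, kap (Fr := Fr) w a • Fr.b a) := by
    refine Finset.sum_induction _ (Ns Fr j x) (fun _ _ => Ns.add) Ns.zero ?_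
    intro a _
    by_cases ha : (a.1 : ℕ) < j ∨ a.1 = x.1
    · rw [kap, hw (neg a) ha, zero_mul, zero_smul]
      exact Ns.zero
    · push Not at ha
      exact Ns.b hx ha.1 (Ne.symm ha.2) _
  have h3 := (Sg.Ns_V0 hx h1).add h2
  rwa [sub_add_cancel] at h3

/-- the opposite case -/
theorem Sing.exists_opp {j : ℕ} {x : Fin n × Bool} (hx : j ≤ (x.1 : ℕ)) {v : V} (hS : Sg.S v)
    (hv : ∀ a, (a.1 : ℕ) < j → H.h v (Fr.b a) = 0) (hne : H.h v (Fr.b x) ≠ 0) :
    ∃ g ∈ GJ Fr j, ∃ c : F, c ≠ 0 ∧ g (Fr.b (neg x)) = c • v := by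
  have hη := Fr.η_ne x
  have hη' := Fr.η_ne (neg x)
  obtain ⟨β, hβ⟩ : ∃ β, β = H.h v (Fr.b x) := ⟨_, rfl⟩
  rw [← hβ] at hne
  obtain ⟨v', hv'⟩ : ∃ v', v' = (Fr.η x * β⁻¹) • v := ⟨_, rfl⟩
  have e1 : H.h v' (Fr.b x) = Fr.η x := by
    rw [hv', H.smul_left, ← hβ]
    field_simp
  obtain ⟨u, hu⟩ : ∃ u, u = (Fr.η x)⁻¹ • (v' - Fr.b (neg x)) := ⟨_, rfl⟩
  obtain ⟨μ, hμ⟩ : ∃ μ, μ = H.h u (Fr.b (neg x)) * (Fr.η (neg x))⁻¹ := ⟨_, rfl⟩
  have hw : Ns Fr j x (u - μ • Fr.b x) := by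
    refine Sg.Ns_of hx ?_
    rintro a (ha | ha)
    · have h1 : x.1 ≠ a.1 := by
        intro h
        rw [h] at hx
        omega
      rw [H.sub_left, hu, H.smul_left, H.sub_left, hv', H.smul_left, hv a ha, H.smul_left, Fr.hb_of_ne h1,
        Fr.hb_of_ne (x := neg x) h1]
      simp
    · by_cases hax : a = x
      · subst hax
        rw [H.sub_left, hu, H.smul_left, H.sub_left, e1, Fr.hb_neg_self, H.smul_left, Fr.hb_self]
        simp
      · have hax' : a = neg x := by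
          refine Prod.ext ha ?_
          rw [neg_snd]
          have : a.2 ≠ x.2 := fun h => hax (Prod.ext ha h)
          cases h1 : a.2 <;> cases h2 : x.2 <;> simp_all only [_root_.Prod.forall, _root_.Bool.forall_bool, _root_.ne_eq, _root_.not_true_eq_false, _root_.Bool.false_eq_true, _root_.not_false_eq_true, _root_.Bool.not_true, _root_.Bool.true_eq_false, _root_.Bool.not_false]
        subst hax'
        rw [H.sub_left, H.smul_left, Fr.hb_self_neg, hμ, mul_assoc, inv_mul_cancel₀ hη', mul_one, sub_self]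
  obtain ⟨c, hw0, hm⟩ := hw
  obtain ⟨g, hg⟩ : ∃ g, g = H.sie (Fr.b x) (u - μ • Fr.b x) c (Fr.hb_self x) hw0 := ⟨_, rfl⟩
  rw [← hg] at hm
  have hgx : g (Fr.b x) = Fr.b x := by
    rw [hg, HForm.sie_apply, Fr.hb_self, hw0]
    simp
  obtain ⟨δ, hδ⟩ : ∃ δ : F, g (Fr.b (neg x)) = v' + δ • Fr.b x := by
    have e2 : v' = Fr.b (neg x) + Fr.η x • u := by
      rw [hu, smul_smul, mul_inv_cancel₀ hη, one_smul]; abel
    rw [hg, HForm.sie_apply, Fr.hb_neg_self, e2]
    refine ⟨-(Fr.η x * μ) - H.ε⁻¹ * H.h (Fr.b (neg x)) (u - μ • Fr.b x) + c * Fr.η x, ?_⟩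
    module
  have h1 : g (Fr.b (neg x) + (-δ) • Fr.b x) = v' := by
    rw [map_add, map_smul, hδ, hgx]
    module
  have h2 : Sg.S (Fr.b (neg x) + (-δ) • Fr.b x) := by
    rw [← Sg.iff_of_mem hm, h1, hv']
    exact Sg.smul _ hS
  have h3 := Sg.tr x _ h2
  refine ⟨g * Fr.Z x ⟨0, _, h3⟩, mul_mem hm (Z_mem hx _), Fr.η x * β⁻¹,
    mul_ne_zero hη (inv_ne_zero hne), ?_⟩
  rw [mul_apply', Z_apply_neg]
  simp only
  rw [smul_zero, add_zero, mul_assoc, inv_mul_cancel₀ hη, mul_one, h1, hv']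

omit Sg in
theorem exists_swap (j : Fin n) (hsw : (∃ p0 : Fr.Adm, p0.c ≠ 0) ∨ (j : ℕ) + 1 < n) :
    ∃ g ∈ GJ Fr j, ∃ c : F, c ≠ 0 ∧ g (Fr.b (j, true)) = c • Fr.b (neg (j, true)) := by
  rcases hsw with ⟨p0, hp0⟩ | hj
  · have hm : nZ Fr (j, true) p0 ∈ GJ Fr (j : ℕ) := nZ_mem (a := (j, true)) le_rfl p0
    refine ⟨nZ Fr (j, true) p0, hm, _, ?_, nZ_apply_self Fr (j, true) p0 hp0⟩
    · have hσ : H.σ p0.c ≠ 0 := by simpa using hp0
      exact mul_ne_zero (mul_ne_zero H.ε_ne (inv_ne_zero (Fr.η_ne _))) (inv_ne_zero hσ)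
  · set x : Fin n × Bool := (j, true) with hx
    set y : Fin n × Bool := (⟨(j : ℕ) + 1, hj⟩, true) with hy
    have hxy : x.1 ≠ y.1 := by
      intro h
      have := congrArg (fun i : Fin n => (i : ℕ)) h
      simp [hx, hy] at this
    have hyx : (neg y).1 ≠ x.1 := hxy.symm
    have hx' : (j : ℕ) ≤ (x.1 : ℕ) := le_rfl
    have hy' : (j : ℕ) ≤ (y.1 : ℕ) := by simp [hy]
    refine ⟨nX Fr (neg y) x 1 * nX Fr x y 1, mul_mem ?_ ?_, 1, one_ne_zero, ?_⟩
    · exact nX_mem (a := neg y) hy' hx' hyx 1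
    · exact nX_mem hx' hy' hxy 1
    · rw [mul_apply', nX_apply_self Fr hxy one_ne_zero, map_neg, map_smul, nX_apply_self Fr hyx one_ne_zero]
      simp

/-- **Transitivity on singular lines.** -/
theorem Sing.exists_line (j : Fin n) (hsw : (∃ p0 : Fr.Adm, p0.c ≠ 0) ∨ (j : ℕ) + 1 < n) {v : V} (hv0 : v ≠ 0)
    (hS : Sg.S v) (hv : ∀ a, (a.1 : ℕ) < (j : ℕ) → H.h v (Fr.b a) = 0) :
    ∃ g ∈ GJ Fr j, ∃ c : F, c ≠ 0 ∧ g (Fr.b (j, true)) = c • v := by
  obtain ⟨s, hs, c', hc', hsx⟩ := exists_swap (Fr := Fr) j hsw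
  set x : Fin n × Bool := (j, true) with hx
  have hxj : (j : ℕ) ≤ (x.1 : ℕ) := le_rfl
  by_cases h1 : H.h v (Fr.b x) = 0
  · by_cases h2 : ∃ a : Fin n × Bool, j < a.1 ∧ H.h v (Fr.b a) ≠ 0
    · obtain ⟨a, ha, hva⟩ := h2
      have hax : a.1 ≠ x.1 := (ne_of_gt ha)
      have haj : (j : ℕ) ≤ (a.1 : ℕ) := le_of_lt ha
      -- `k = X a (neg x) 1 : b x ↦ b x + b a`
      set k := Fr.X a (neg x) 1 with hk
      have hkm : k ∈ GJ Fr j := X_mem (b := neg x) haj hxj hax _
      have hkx : k (Fr.b x) = Fr.b x + (1 : F) • Fr.b a := by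
        have := X_apply_neg Fr (x := a) (y := neg x) hax 1
        rwa [neg_neg] at this
      have h3 : H.h (k⁻¹ v) (Fr.b x) ≠ 0 := by
        have h4 := iso_of_mem hkm (k⁻¹ v) (Fr.b x)
        have h5 : k (k⁻¹ v) = v := k.apply_symm_apply v
        rw [h5, hkx, one_smul, H.add_right, h1, zero_add] at h4
        rwa [← h4]
      have h6 : ∀ b, (b.1 : ℕ) < (j : ℕ) → H.h (k⁻¹ v) (Fr.b b) = 0 := by
        intro b hb
        have h4 := iso_of_mem hkm (k⁻¹ v) (Fr.b b)
        have h5 : k (k⁻¹ v) = v := k.apply_symm_apply v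
        rw [h5, b_of_mem hkm hb, hv b hb] at h4
        exact h4.symm
      obtain ⟨g, hg, c, hc, hgx⟩ := Sg.exists_opp hxj ((Sg.iff_of_mem (inv_mem hkm) v).2 hS) h6 h3
      refine ⟨k * g * s, mul_mem (mul_mem hkm hg) hs, c' * c, mul_ne_zero hc' hc, ?_⟩
      rw [mul_apply', mul_apply', hsx, map_smul, hgx, map_smul, map_smul, smul_smul]
      have h5 : k (k⁻¹ v) = v := k.apply_symm_apply v
      rw [h5]
    · push Not at h2
      -- `v = α b x`
      have h3 : v - (kap (Fr := Fr) v x) • Fr.b x ∈ Fr.V0 := by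
        apply Sg.V0
        intro a
        rw [H.sub_left, H.smul_left]
        rcases lt_trichotomy a.1 x.1 with h | h | h
        · rw [hv a h, Fr.hb_of_ne (ne_of_gt h)]; simp
        · by_cases hax : a = x
          · rw [hax, h1, Fr.hb_self]; simp
          · have hax' : a = neg x := by
              refine Prod.ext h ?_
              rw [neg_snd]
              have : a.2 ≠ x.2 := fun h' => hax (Prod.ext h h')
              cases h1 : a.2 <;> cases h2 : x.2 <;> simp_all only [_root_.ne_eq, _root_.Fin.val_fin_lt, _root_.Prod.forall, _root_.Bool.forall_bool, _root_.Std.le_refl, _root_.Bool.false_eq_true, _root_.not_false_eq_true, _root_.Bool.true_eq_false, _root_.Bool.not_true, _root_.not_true_eq_false]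
            rw [hax', Fr.hb_self_neg, kap, mul_assoc, inv_mul_cancel₀ (Fr.η_ne _), mul_one, sub_self]
        · rw [h2 a h, Fr.hb_of_ne (ne_of_lt h)]; simp
      have h4 : Sg.S (v - (kap (Fr := Fr) v x) • Fr.b x) := by
        rw [sub_eq_add_neg, ← neg_smul]
        refine Sg.add hS (Sg.smul _ (Sg.b x)) ?_
        rw [H.smul_right, h1, mul_zero]
      have h5 := Sg.aniso _ h3 h4
      have h6 : v = (kap (Fr := Fr) v x) • Fr.b x := sub_eq_zero.1 h5
      have h7 : kap (Fr := Fr) v x ≠ 0 := by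
        intro h
        rw [h, zero_smul] at h6
        exact hv0 h6
      refine ⟨1, one_mem _, (kap (Fr := Fr) v x)⁻¹, inv_ne_zero h7, ?_⟩
      change Fr.b x = _
      have h8 := congrArg (fun z => (kap (Fr := Fr) v x)⁻¹ • z) h6
      simp only [smul_smul] at h8
      rw [h8, inv_mul_cancel₀ h7, one_smul]
  · obtain ⟨g, hg, c, hc, hgx⟩ := Sg.exists_opp hxj hS hv h1
    refine ⟨g * s, mul_mem hg hs, c' * c, mul_ne_zero hc' hc, ?_⟩
    rw [mul_apply', hsx, map_smul, hgx, smul_smul]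

/-! ### Flags -/

omit Sg

theorem EE_zero : EE Fr 0 = ⊥ := by
  rw [EE, Submodule.span_eq_bot]
  rintro _ ⟨l, hl, -⟩
  omega

theorem b_mem_EE {i : ℕ} {l : Fin n} (hl : (l : ℕ) < i) : Fr.b (l, true) ∈ EE Fr i :=
  Submodule.subset_span ⟨l, hl, rfl⟩

theorem EE_mono {i j : ℕ} (h : i ≤ j) : EE Fr i ≤ EE Fr j := by
  refine Submodule.span_le.2 ?_
  rintro _ ⟨l, hl, rfl⟩
  exact b_mem_EE (lt_of_lt_of_le hl h)

theorem EE_succ {i : ℕ} (hi : i < n) : EE Fr (i + 1) = EE Fr i ⊔ Submodule.span F {Fr.b (⟨i, hi⟩, true)} := by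
  apply le_antisymm
  · refine Submodule.span_le.2 ?_
    rintro _ ⟨l, hl, rfl⟩
    rcases Nat.lt_or_ge (l : ℕ) i with h | h
    · exact Submodule.mem_sup_left (b_mem_EE h)
    · have e : l = ⟨i, hi⟩ := Fin.ext (by simp only; omega)
      rw [e]
      exact Submodule.mem_sup_right (Submodule.subset_span rfl)
  · refine sup_le (EE_mono (Nat.le_succ i)) ?_
    refine Submodule.span_le.2 ?_
    rintro _ rfl
    exact b_mem_EE (Nat.lt_succ_self i)

theorem linInd : LinearIndependent F fun l : Fin n => Fr.b (l, true) := by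
  rw [Fintype.linearIndependent_iff]
  intro c hc i
  have h1 : H.h (∑ l : Fin n, c l • Fr.b (l, true)) (Fr.b (i, false)) = c i := by
    have h2 : ∀ s : Finset (Fin n), H.h (∑ l ∈ s, c l • Fr.b (l, true)) (Fr.b (i, false)) =
        ∑ l ∈ s, c l * H.h (Fr.b (l, true)) (Fr.b (i, false)) := by
      intro s
      induction s using Finset.induction_on with
      | empty => simp [H.zero_left]
      | insert a s ha ih => rw [Finset.sum_insert ha, Finset.sum_insert ha, H.add_left, H.smul_left, ih]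
    rw [h2, Finset.sum_eq_single i]
    · rw [Fr.hb]; simp
    · intro l _ hl
      rw [Fr.hb_of_ne (x := (l, true)) (y := (i, false)) hl, mul_zero]
    · intro h
      exact absurd (Finset.mem_univ _) h
  rw [hc, H.zero_left] at h1
  exact h1.symm

theorem finrank_EE {i : ℕ} (hi : i ≤ n) : Module.finrank F (EE Fr i) = i := by
  have h1 : LinearIndependent F fun l : Fin i => Fr.b (Fin.castLE hi l, true) :=
    (linInd (Fr := Fr)).comp (Fin.castLE hi) (Fin.castLE_injective hi)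
  have h2 : EE Fr i = Submodule.span F (Set.range fun l : Fin i => Fr.b (Fin.castLE hi l, true)) := by
    rw [EE]
    congr 1
    ext v
    constructor
    · rintro ⟨l, hl, rfl⟩
      exact ⟨⟨l, hl⟩, rfl⟩
    · rintro ⟨l, rfl⟩
      exact ⟨Fin.castLE hi l, l.2, rfl⟩
  rw [h2, finrank_span_eq_card h1, Fintype.card_fin]

instance (i : ℕ) : Module.Finite F (EE Fr i) := by
  have : EE Fr i = Submodule.span F ((fun l : Fin n => Fr.b (l, true)) '' {l | (l : ℕ) < i}) := by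
    rw [EE]
    congr 1
    ext v
    constructor
    · rintro ⟨l, hl, rfl⟩
      exact ⟨l, hl, rfl⟩
    · rintro ⟨l, hl, rfl⟩
      exact ⟨l, hl, rfl⟩
  rw [this]
  exact Module.Finite.span_of_finite F (Set.toFinite _)

/-- the annihilator property -/
theorem h_EE {i : ℕ} {v : V} (hv : ∀ l : Fin n, (l : ℕ) < i → H.h v (Fr.b (l, true)) = 0) {w : V} (hw : w ∈ EE Fr i) :
    H.h v w = 0 := by
  refine Submodule.span_induction (p := fun w _ => H.h v w = 0) ?_ ?_ ?_ ?_ hw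
  · rintro _ ⟨l, hl, rfl⟩
    exact hv l hl
  · exact H.zero_right _
  · intro x y _ _ hx hy
    rw [H.add_right, hx, hy, add_zero]
  · intro c x _ hx
    rw [H.smul_right, hx, mul_zero]

/-- a totally singular subspace -/
def Sing.TS (Sg : Sing Fr) (U : Submodule F V) : Prop := (∀ v ∈ U, Sg.S v) ∧ ∀ v ∈ U, ∀ w ∈ U, H.h v w = 0

include Sg

theorem Sing.S_zero : Sg.S 0 ∨ n = 0 := by
  rcases Nat.eq_zero_or_pos n with h | h
  · exact Or.inr h
  · left
    have := Sg.smul 0 (Sg.b (⟨0, h⟩, true))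
    rwa [zero_smul] at this

theorem Sing.ts_EE {i : ℕ} (h0 : Sg.S 0) : Sg.TS (EE Fr i) := by
  have h2 : ∀ v ∈ EE Fr i, ∀ w ∈ EE Fr i, H.h v w = 0 := by
    intro v hv w hw
    refine h_EE ?_ hw
    intro l _
    refine H.orth_symm (h_EE ?_ hv)
    intro l' _
    refine Fr.hb_ne ?_
    intro h
    have := congrArg Prod.snd h
    simp [neg] at this
  refine ⟨fun v hv => ?_, h2⟩
  refine Submodule.span_induction (p := fun v hv => Sg.S v) ?_ h0 ?_ ?_ hv
  · rintro _ ⟨l, hl, rfl⟩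
    exact Sg.b _
  · intro x y hx hy hx' hy'
    exact Sg.add hx' hy' (h2 x hx y hy)
  · intro c x _ hx
    exact Sg.smul c hx

/-- the projection -/
theorem Sing.exists_proj {i : ℕ} (hi : i < n) {v : V}
    (hvi : v ∉ EE Fr i) (hS : Sg.S v) (hv : ∀ w ∈ EE Fr i, H.h v w = 0) :
    ∃ u ∈ EE Fr i, v + u ≠ 0 ∧ Sg.S (v + u) ∧ ∀ a : Fin n × Bool, (a.1 : ℕ) < i → H.h (v + u) (Fr.b a) = 0 := by
  -- the projection to `E_i`
  obtain ⟨u, hu⟩ : ∃ u, u = -∑ l : {l : Fin n // (l : ℕ) < i}, kap (Fr := Fr) v (l.1, true) • Fr.b (l.1, true) :=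
    ⟨_, rfl⟩
  have huE : u ∈ EE Fr i := by
    rw [hu]
    refine neg_mem (Submodule.sum_mem _ fun l _ => Submodule.smul_mem _ _ (b_mem_EE l.2))
  have hS' : Sg.S (v + u) := by
    have h0 : Sg.S 0 := (Sg.S_zero).resolve_right (by omega)
    exact Sg.add hS ((Sg.ts_EE h0).1 u huE) (hv u huE)
  have hne : v + u ≠ 0 := by
    intro h
    apply hvi
    rw [eq_neg_of_add_eq_zero_left h]
    exact neg_mem huE
  have horth : ∀ a : Fin n × Bool, (a.1 : ℕ) < i → H.h (v + u) (Fr.b a) = 0 := by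
    rintro ⟨l, s⟩ hl
    simp only at hl
    cases s with
    | true =>
      rw [H.add_left, hv _ (b_mem_EE hl)]
      have h0 : Sg.S 0 := (Sg.S_zero).resolve_right (by omega)
      rw [(Sg.ts_EE h0).2 u huE _ (b_mem_EE hl), add_zero]
    | false =>
      have h2 : ∀ s : Finset {l : Fin n // (l : ℕ) < i},
          H.h (∑ l ∈ s, kap (Fr := Fr) v (l.1, true) • Fr.b (l.1, true)) (Fr.b (l, false)) =
            ∑ l' ∈ s, kap (Fr := Fr) v (l'.1, true) * H.h (Fr.b (l'.1, true)) (Fr.b (l, false)) := by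
        intro s
        induction s using Finset.induction_on with
        | empty => simp [H.zero_left]
        | insert a s ha ih => rw [Finset.sum_insert ha, Finset.sum_insert ha, H.add_left, H.smul_left, ih]
      rw [H.add_left, hu, H.neg_left, h2, Finset.sum_eq_single ⟨l, hl⟩]
      · have e : ((l, false) : Fin n × Bool) = neg (l, true) := rfl
        simp only
        rw [e, Fr.hb_self_neg, kap, mul_assoc, inv_mul_cancel₀ (Fr.η_ne _), mul_one, add_neg_cancel]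
      · intro l' _ hl'
        rw [Fr.hb_of_ne, mul_zero]
        intro h
        exact hl' (Subtype.ext h)
      · intro h
        exact absurd (Finset.mem_univ _) h
  exact ⟨u, huE, hne, hS', horth⟩

/-- one step: a singular vector orthogonal to `E_i` and not in `E_i` can be moved into `E_{i+1}` -/
theorem Sing.exists_step {i : ℕ} (hi : i < n) (hsw : (∃ p0 : Fr.Adm, p0.c ≠ 0) ∨ i + 1 < n) {v : V}
    (hvi : v ∉ EE Fr i) (hS : Sg.S v) (hv : ∀ w ∈ EE Fr i, H.h v w = 0) :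
    ∃ g ∈ GJ Fr i, ∃ u ∈ EE Fr i, ∃ c : F, c ≠ 0 ∧ g (Fr.b (⟨i, hi⟩, true)) = c • (v + u) := by
  obtain ⟨u, huE, hne, hS', horth⟩ := Sg.exists_proj hi hvi hS hv
  obtain ⟨g, hg, c, hc, h⟩ := Sg.exists_line ⟨i, hi⟩ hsw hne hS' horth
  exact ⟨g, hg, u, huE, c, hc, h⟩

omit Sg in
theorem finrank_map_EE {i : ℕ} (hi : i ≤ n) (g : V ≃ₗ[F] V) :
    Module.finrank F ((EE Fr i).map (g : V →ₗ[F] V)) = i := by
  rw [LinearEquiv.finrank_map_eq g, finrank_EE hi]

/-- the steps of the induction along the flag -/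
theorem Sing.flag_key [FiniteDimensional F V] (K : Set ℕ)
    (hK : ∀ k ∈ K, k ≤ n) (x : ℕ → Submodule F V) (hdim : ∀ k ∈ K, Module.finrank F (x k) = k)
    (hmono : ∀ k ∈ K, ∀ l ∈ K, k ≤ l → x k ≤ x l) (hTS : ∀ k ∈ K, Sg.TS (x k)) (i : ℕ)
    (hsw : ∀ l < i, (∃ p0 : Fr.Adm, p0.c ≠ 0) ∨ (∀ k ∈ K, k ≤ l) ∨ l + 1 < n) :
    ∃ g ∈ RG Fr, ∀ k ∈ K, (k ≤ i → (EE Fr k).map (g : V →ₗ[F] V) = x k) ∧
      (i ≤ k → (EE Fr i).map (g : V →ₗ[F] V) ≤ x k) := by
    induction i with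
    | zero =>
      refine ⟨1, one_mem _, fun k hk => ⟨fun h => ?_, fun _ => ?_⟩⟩
      · have hk0 : k = 0 := Nat.le_zero.1 h
        have h1 := hdim k hk
        subst hk0
        rw [EE_zero, Submodule.map_bot, Submodule.finrank_eq_zero.1 h1]
      · rw [EE_zero, Submodule.map_bot]
        exact bot_le
    | succ i ih =>
      obtain ⟨g, hg, hk⟩ := ih fun l hl => hsw l (Nat.lt_succ_of_lt hl)
      by_cases hex : ∃ k, k ∈ K ∧ i + 1 ≤ k
      · classical
        obtain ⟨k₀, ⟨hk₀, hik₀⟩, hmin⟩ : ∃ k₀, (k₀ ∈ K ∧ i + 1 ≤ k₀) ∧ ∀ k, k ∈ K ∧ i + 1 ≤ k → k₀ ≤ k :=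
          ⟨Nat.find hex, Nat.find_spec hex, fun k hk => Nat.find_min' hex hk⟩
        have hin : i < n := lt_of_lt_of_le hik₀ (hK k₀ hk₀)
        have hsw' : (∃ p0 : Fr.Adm, p0.c ≠ 0) ∨ i + 1 < n := by
          rcases hsw i (Nat.lt_succ_self i) with h | h | h
          · exact Or.inl h
          · exact absurd (h k₀ hk₀) (not_le.2 hik₀)
          · exact Or.inr h
        have hle := (hk k₀ hk₀).2 (Nat.le_of_succ_le hik₀)
        obtain ⟨v, hv, hv'⟩ : ∃ v ∈ x k₀, v ∉ (EE Fr i).map (g : V →ₗ[F] V) := by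
          by_contra hcon
          push Not at hcon
          have h1 : x k₀ ≤ (EE Fr i).map (g : V →ₗ[F] V) := hcon
          have h2 := Submodule.finrank_mono h1
          rw [hdim k₀ hk₀, finrank_map_EE hin.le] at h2
          omega
        have hgv : g (g⁻¹ v) = v := g.apply_symm_apply v
        have h1 : g⁻¹ v ∉ EE Fr i := by
          intro h
          exact hv' ⟨_, h, hgv⟩
        have h2 : Sg.S (g⁻¹ v) := (Sg.iff_of_mem (inv_mem hg) v).2 ((hTS k₀ hk₀).1 v hv)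
        have h3 : ∀ w ∈ EE Fr i, H.h (g⁻¹ v) w = 0 := by
          intro w hw
          rw [← iso_of_mem hg (g⁻¹ v) w, hgv]
          exact (hTS k₀ hk₀).2 v hv _ (hle ⟨w, hw, rfl⟩)
        obtain ⟨u, hu, e, he, c, hc, hub⟩ := Sg.exists_step hin hsw' h1 h2 h3
        have hmap : ∀ k ≤ i, (EE Fr k).map ((g * u : V ≃ₗ[F] V) : V →ₗ[F] V) = (EE Fr k).map (g : V →ₗ[F] V) := by
          intro k hki
          apply le_antisymm
          · rintro _ ⟨w, hw, rfl⟩
            refine ⟨w, hw, ?_⟩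
            change g w = g (u w)
            rw [EE_of_mem hu hki hw]
          · rintro _ ⟨w, hw, rfl⟩
            refine ⟨w, hw, ?_⟩
            change g (u w) = g w
            rw [EE_of_mem hu hki hw]
        have hle' : (EE Fr (i + 1)).map ((g * u : V ≃ₗ[F] V) : V →ₗ[F] V) ≤ x k₀ := by
          rw [EE_succ hin, Submodule.map_sup, hmap i le_rfl]
          refine sup_le hle ?_
          rw [Submodule.map_span, Submodule.span_le]
          rintro _ ⟨_, rfl, rfl⟩
          change g (u (Fr.b (⟨i, hin⟩, true))) ∈ x k₀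
          rw [hub, map_smul, map_add, hgv]
          exact Submodule.smul_mem _ _ (Submodule.add_mem _ hv (hle ⟨e, he, rfl⟩))
        have hmem : g * u ∈ RG Fr := mul_mem hg (GJ_anti (Nat.zero_le i) hu)
        refine ⟨g * u, hmem, fun k hkK => ⟨fun h => ?_, fun h => ?_⟩⟩
        · rcases Nat.lt_or_ge i k with h' | h'
          · have e1 : k = i + 1 := le_antisymm h h'
            subst e1
            have e2 : k₀ = i + 1 := le_antisymm (hmin _ ⟨hkK, le_rfl⟩) hik₀
            subst e2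
            refine Submodule.eq_of_le_of_finrank_eq hle' ?_
            rw [finrank_map_EE hin, hdim _ hkK]
          · rw [hmap k h', (hk k hkK).1 h']
        · exact hle'.trans (hmono k₀ hk₀ k hkK (hmin k ⟨hkK, h⟩))
      · push Not at hex
        refine ⟨g, hg, fun k hkK => ⟨fun h => (hk k hkK).1 (Nat.lt_succ_iff.1 (hex k hkK)), fun h => ?_⟩⟩
        exact absurd (hex k hkK) (not_lt.2 h)

/-- **Transitivity on totally singular flags of type `K`.** -/
theorem Sing.flag_trans [FiniteDimensional F V] (K : Set ℕ) (hsw : (∃ p0 : Fr.Adm, p0.c ≠ 0) ∨ ∀ k ∈ K, k < n)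
    (hK : ∀ k ∈ K, k ≤ n) (x : ℕ → Submodule F V) (hdim : ∀ k ∈ K, Module.finrank F (x k) = k)
    (hmono : ∀ k ∈ K, ∀ l ∈ K, k ≤ l → x k ≤ x l) (hTS : ∀ k ∈ K, Sg.TS (x k)) :
    ∃ g ∈ RG Fr, ∀ k ∈ K, (EE Fr k).map (g : V →ₗ[F] V) = x k := by
  obtain ⟨g, hg, h⟩ := Sg.flag_key K hK x hdim hmono hTS n (by
    intro l hl
    rcases hsw with h | h
    · exact Or.inl h
    · by_cases h' : l + 1 < n
      · exact Or.inr (Or.inr h')
      · exact Or.inr (Or.inl fun k hk => by have := h k hk; omega))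
  exact ⟨g, hg, fun k hk => (h k hk).1 (hK k hk)⟩

/-! ### Type `D`: the two families of maximal totally singular subspaces -/

end Cfsg.Agent.H749.PF
end

-- part: H749/PF/Model
section
/-!
# Singular vectors of the standard frames; transitivity on chains of totally singular subspaces (helper749)

* `ofW W : Sing (toFrame W)` for every `WFrame W` (unitary, orthogonal, every characteristic), `S v ↔ P.ok v 0`;
* `sp m F : Sing (SpIdent.frame m F)`, `S v ↔ True`;
* `Sing.chain_trans`, `Sing.chain_trans_model`.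
-/

set_option autoImplicit false

namespace Cfsg.Agent.H749.PF

open Cfsg.Agent.TitsThree Cfsg.Agent.TitsThree.Siegel Cfsg.Agent.TitsThree.SiegelGen
  Cfsg.Agent.TitsThree.WittFrame Cfsg.Agent.TitsThree.WittWeyl Cfsg.Agent.TitsThree.WBridge
  Cfsg.Agent.TitsThree.FrameCN

variable {F : Type*} [Field F] {V : Type*} [AddCommGroup V] [Module F V] {H : HForm F V} {n : ℕ}

/-! ### Witt frames -/

section W

variable {P : PQ H} (W : WFrame P n)

theorem mem_V0_of {v : V} (hv : ∀ x, H.h v ((toFrame W).b x) = 0) : v ∈ W.V0 := by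
  obtain ⟨a, b, w, hw, e⟩ := W.span v
  have h1 : ∀ (s : Finset (Fin n)) (c : Fin n → F) (u : Fin n → V) (z : V),
      H.h (∑ i ∈ s, c i • u i) z = ∑ i ∈ s, c i * H.h (u i) z := by
    intro s c u z
    induction s using Finset.induction_on with
    | empty => simp [H.zero_left]
    | insert a s ha ih => rw [Finset.sum_insert ha, Finset.sum_insert ha, H.add_left, H.smul_left, ih]
  have ha : ∀ i, a i = 0 := by
    intro i
    have h2 := hv (i, false)
    rw [toFrame_b_false, e, H.add_left, H.add_left, h1, h1, W.V0f w hw i, add_zero,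
      Finset.sum_eq_single i, Finset.sum_eq_zero, add_zero] at h2
    · rwa [W.ef, if_pos rfl, mul_one] at h2
    · intro j _
      rw [W.ff, mul_zero]
    · intro j _ hj
      rw [W.ef, if_neg hj, mul_zero]
    · intro h
      exact absurd (Finset.mem_univ _) h
  have hb : ∀ i, b i = 0 := by
    intro i
    have h2 := hv (i, true)
    rw [toFrame_b_true, e, H.add_left, H.add_left, h1, h1, W.V0e w hw i, add_zero,
      Finset.sum_eq_zero, zero_add, Finset.sum_eq_single i] at h2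
    · rw [W.fe, if_pos rfl] at h2
      exact (mul_eq_zero.1 h2).resolve_right H.ε_ne
    · intro j _ hj
      rw [W.fe, if_neg hj, mul_zero]
    · intro h
      exact absurd (Finset.mem_univ _) h
    · intro j _
      rw [W.ee, mul_zero]
  rw [e, Finset.sum_eq_zero, Finset.sum_eq_zero, zero_add, zero_add]
  · exact hw
  · intro i _
    rw [hb i, zero_smul]
  · intro i _
    rw [ha i, zero_smul]

/-- The singular vectors of a Witt frame: `P.ok v 0`. -/
def ofW : Sing (toFrame W) where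
  S v := P.ok v 0
  smul c _ h := P.sing_smul h c
  add h h' e := P.sing_add h h' (H.orth_symm e)
  b := b_sing W
  X {x y} t v hxy hv := by
    rw [Frame.X_eq _ hxy]
    exact P.ok_sie _ _ (b_sing W x) (P.sing_smul (b_sing W y) _) hv
  Z x p v hv := P.ok_sie _ _ (b_sing W x) p.ok.2 hv
  V0 v hv := mem_V0_of W hv
  aniso w hw h := W.aniso w hw h
  ok w hw := by
    obtain ⟨c, hc⟩ := P.ex w
    exact ⟨c, hw, hc⟩
  tr x δ h := by
    have h1 := P.add (b_sing W (neg x)) (P.sing_smul (b_sing W x) δ)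
    have h2 := P.sub h h1
    refine ⟨W.V0.zero_mem, P.congr h2 rfl ?_⟩
    rw [H.smul_left, Frame.hb_self_neg]
    have e1 := (toFrame W).η_neg x
    have e2 := (toFrame W).η_ne x
    have e3 := H.ε_ne
    rw [← e1] at e3 ⊢
    have e4 := (toFrame W).η_ne (neg x)
    field_simp
    ring

@[simp] theorem ofW_S (v : V) : (ofW W).S v ↔ P.ok v 0 := Iff.rfl

end W

/-! ### The symplectic frames -/

/-- The singular vectors of the symplectic frame: all vectors. -/
def sp (m : ℕ) (F : Type*) [Field F] : Sing (SpIdent.frame m F) where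
  S _ := True
  smul _ _ _ := trivial
  add _ _ _ := trivial
  b _ := trivial
  X _ _ _ _ := trivial
  Z _ _ _ _ := trivial
  V0 v hv := by
    have h1 : v ∈ (SpGen.wframe m F).V0 := by
      refine mem_V0_of (SpGen.wframe m F) ?_
      rintro ⟨i, x⟩
      cases x
      · exact hv (i, false)
      · exact hv (i, true)
    exact h1
  aniso w hw _ := (Submodule.mem_bot F).1 hw
  ok w hw := ⟨0, (Submodule.mem_bot F).1 hw⟩
  tr _ _ _ := rfl

/-! ### Chains -/

variable {Fr : Frame H (Fin n)} (Sg : Sing Fr)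

include Sg

/-- **Transitivity on the chains of totally singular subspaces with given dimensions.** -/
theorem Sing.chain_trans [FiniteDimensional F V] (c : Set (Submodule F V)) (hc : IsChain (· ≤ ·) c)
    (hTS : ∀ U ∈ c, Sg.TS U) (hdim : ∀ U ∈ c, Module.finrank F U ≤ n)
    (hsw : (∃ p0 : Fr.Adm, p0.c ≠ 0) ∨ ∀ U ∈ c, Module.finrank F U < n) :
    ∃ g ∈ RG Fr, ∀ U ∈ c, (EE Fr (Module.finrank F U)).map (g : V →ₗ[F] V) = U := by
  classical
  have huniq : ∀ U ∈ c, ∀ U' ∈ c, Module.finrank F U ≤ Module.finrank F U' → U ≤ U' := by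
    intro U hU U' hU' h
    by_cases hUU : U = U'
    · exact hUU.le
    · rcases hc hU hU' hUU with h1 | h1
      · exact h1
      · exact (Submodule.eq_of_le_of_finrank_le h1 h).ge
  let x : ℕ → Submodule F V := fun k => if h : ∃ U ∈ c, Module.finrank F U = k then h.choose else ⊥
  have hx : ∀ U ∈ c, x (Module.finrank F U) = U := by
    intro U hU
    have h : ∃ U' ∈ c, Module.finrank F U' = Module.finrank F U := ⟨U, hU, rfl⟩
    have e : x (Module.finrank F U) = h.choose := dif_pos h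
    rw [e]
    exact le_antisymm (huniq _ h.choose_spec.1 _ hU h.choose_spec.2.le) (huniq _ hU _ h.choose_spec.1 h.choose_spec.2.ge)
  obtain ⟨g, hg, h⟩ := Sg.flag_trans {k | ∃ U ∈ c, Module.finrank F U = k} (hsw.imp id (by
      rintro h _ ⟨U, hU, rfl⟩
      exact h U hU)) (by
      rintro _ ⟨U, hU, rfl⟩
      exact hdim U hU) x (by
      rintro _ ⟨U, hU, rfl⟩
      rw [hx U hU]) (by
      rintro _ ⟨U, hU, rfl⟩ _ ⟨U', hU', rfl⟩ h
      rw [hx U hU, hx U' hU']
      exact huniq U hU U' hU' h) (by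
      rintro _ ⟨U, hU, rfl⟩
      rw [hx U hU]
      exact hTS U hU)
  refine ⟨g, hg, fun U hU => ?_⟩
  rw [h _ ⟨U, hU, rfl⟩, hx U hU]

omit Sg in
theorem RG_le_model {K : Type*} [Group K] (M : Model Fr K) : RG Fr ≤ M.I := GJ_le M.hX M.hZ

/-- **The same for a model.** -/
theorem Sing.chain_trans_model [FiniteDimensional F V] {K : Type*} [Group K] (M : Model Fr K)
    (c : Set (Submodule F V)) (hc : IsChain (· ≤ ·) c)
    (hTS : ∀ U ∈ c, Sg.TS U) (hdim : ∀ U ∈ c, Module.finrank F U ≤ n)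
    (hsw : (∃ p0 : Fr.Adm, p0.c ≠ 0) ∨ ∀ U ∈ c, Module.finrank F U < n) :
    ∃ g : M.I, ∀ U ∈ c, (EE Fr (Module.finrank F U)).map (g.1 : V →ₗ[F] V) = U := by
  obtain ⟨g, hg, h⟩ := Sg.chain_trans c hc hTS hdim hsw
  exact ⟨⟨g, RG_le_model M hg⟩, h⟩

/-! ### Totally singular = totally isotropic -/

omit Sg in
/-- if `h v v = 0 → S v`, then totally singular = totally isotropic -/
theorem Sing.ts_iff (Sg : Sing Fr) (h : ∀ v, H.h v v = 0 → Sg.S v) {U : Submodule F V} :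
    Sg.TS U ↔ ∀ v ∈ U, ∀ w ∈ U, H.h v w = 0 :=
  ⟨fun hU => hU.2, fun hU => ⟨fun v hv => h v (hU v hv v hv), hU⟩⟩

end Cfsg.Agent.H749.PF
end

-- part: H749/PF/Flags
section
/-!
# S4884, block F-B: the flags for the models of type `B_n` / `C_n` (helper749)

`flags_model` : for every model `M : Model Fr K` with a set of singular vectors (`Sing Fr`) such that isotropic vectors
are singular: `Flags (TI H) M.I.subtype M.φ n (fun K j => PJ .. (JB K j))`, `TI H U := ∀ u ∈ U, ∀ v ∈ U, H.h u v = 0`.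
-/

set_option autoImplicit false

namespace Cfsg.Agent.H749.PF

open Cfsg.Agent.TitsThree Cfsg.Agent.TitsThree.Siegel Cfsg.Agent.TitsThree.SiegelGen
  Cfsg.Agent.TitsThree.WittFrame Cfsg.Agent.TitsThree.WittWeyl Cfsg.Agent.TitsThree.WBridge
  Cfsg.Agent.TitsThree.FrameCN
open Cfsg.Agent.Nodes Cfsg.Agent.Nodes.TypeC Cfsg.Agent.Nodes.WittRoot Cfsg.Agent.Nodes.WittRGD Cfsg.Agent.Nodes.WittAll
open Cfsg.Agent.Nodes.BNOf Cfsg.Agent.Nodes.Bruhat Cfsg.Agent.Nodes.LeviDec Cfsg.Agent.ChevalleyStructure.CoxeterGeom Cfsg.Agent.Tits.Roots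
open Cfsg.Agent.H769.OZ Cfsg.Agent.H439.CC Cfsg.Agent.H478.CC

variable {F : Type*} [Field F] {V : Type*} [AddCommGroup V] [Module F V] {H : HForm F V} {n : ℕ}
  {Fr : Frame H (Fin n)}

/-- totally isotropic subspaces -/
def TI (H : HForm F V) (U : Submodule F V) : Prop := ∀ u ∈ U, ∀ v ∈ U, H.h u v = 0

theorem EE_eq_E (k : Fin n) : EE Fr ((k : ℕ) + 1) = E Fr k true := by
  rw [EE, E]
  congr 1
  ext v
  constructor
  · rintro ⟨l, hl, rfl⟩
    exact ⟨l, Fin.le_def.2 (Nat.lt_succ_iff.1 hl), rfl⟩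
  · rintro ⟨l, hl, rfl⟩
    exact ⟨l, Nat.lt_succ_iff.2 (Fin.le_def.1 hl), rfl⟩

theorem mem_StE_iff_map {D : Submodule F V} {g : V ≃ₗ[F] V} : g ∈ StE D ↔ D.map (g : V →ₗ[F] V) = D := by
  rw [mem_StE]
  constructor
  · intro h
    ext v
    constructor
    · rintro ⟨w, hw, rfl⟩
      exact (h w).2 hw
    · intro hv
      refine ⟨g.symm v, (h _).1 ?_, ?_⟩
      · rwa [LinearEquiv.apply_symm_apply]
      · exact g.apply_symm_apply v
  · intro h v
    constructor
    · intro hv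
      rw [← h] at hv
      obtain ⟨w, hw, e⟩ := hv
      have : w = v := g.injective e
      exact this ▸ hw
    · intro hv
      rw [← h]
      exact ⟨v, hv, rfl⟩

section model

variable {K : Type*} [Group K] (M : Model Fr K)

theorem model_surjective (hn : 0 < n) : Function.Surjective M.φ := by
  rw [← MonoidHom.range_eq_top]
  exact M.gen ⟨0, hn⟩ M.φ.range (fun i j _ t => ⟨⟨_, rfl⟩, ⟨_, rfl⟩⟩) fun p => ⟨⟨_, rfl⟩, ⟨_, rfl⟩⟩

/-- the image of the stabiliser of the standard flag of type `D` -/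
def StF (D : Finset ℕ) : Subgroup K :=
  ((⨅ k : {k : Fin n // (k : ℕ) + 1 ∈ D}, StE (E Fr k.1 true)).subgroupOf M.I).map M.φ

theorem phi_mem_StF {D : Finset ℕ} {g : M.I} :
    M.φ g ∈ StF M D ↔ ∀ k : Fin n, (k : ℕ) + 1 ∈ D → g.1 ∈ StE (E Fr k true) := by
  constructor
  · rintro ⟨g', hg', e⟩ k hk
    have h1 : M.φ g' ∈ StK M (E Fr k true) := by
      refine (phi_mem_StK M).2 ?_
      have h2 := Subgroup.mem_subgroupOf.1 hg'
      exact (Subgroup.mem_iInf.1 h2) ⟨k, hk⟩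
    rw [e] at h1
    exact (phi_mem_StK M).1 h1
  · intro h
    refine Subgroup.mem_map_of_mem _ (Subgroup.mem_subgroupOf.2 ?_)
    exact Subgroup.mem_iInf.2 fun k => h k.1 k.2

variable {p : ℕ} (hA : AmbT Fr p M.I) {p0 : Fr.Adm} (hp0 : p0.c ≠ 0) [Finite V] [Fact p.Prime] [CharP F p]
  {W : Type*} [Group W] (cs : CoxeterSystem (CoxeterMatrix.B n) W)

omit [Finite V] in
theorem GG_eq_top (hn : 0 < n) : GG cs (isCartan n) (WittModel.T M) (WittModel.X M) = ⊤ := by
  rw [eq_top_iff, ← WittModel.G1_eq_top M hn cs]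
  exact le_sup_right

include hA hp0 in
/-- **the stabiliser of the standard flag is the parabolic subgroup** -/
theorem StF_eq_PJ (hn : 0 < n) (D : Finset ℕ) (j : Unit) :
    StF M D = PJ cs (isCartan n) (WittModel.T M) (WittModel.X M) (JB D j) := by
  have : Finite W := finite_W cs
  have R := rgdC_model M hA hp0 cs
  have hB : RGD.B cs (isCartan n) (WittModel.T M) (WittModel.X M) ≤ StF M D := by
    intro y hy
    obtain ⟨g, rfl⟩ := model_surjective M hn y
    rw [phi_mem_StF]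
    intro k _
    exact (phi_mem_StK M).1 (B_le_StK M cs (k := k) hy)
  have h1 := inf_eq_PJ R hB
  rw [GG_eq_top M cs hn, inf_top_eq] at h1
  rw [h1]
  congr 1
  ext i
  rw [Set.mem_ofPred_eq, phi_mem_StF]
  change (∀ k : Fin n, (k : ℕ) + 1 ∈ D → _root_.Cfsg.Agent.Nodes.WittRGD.nn Fr p0 i ∈ StE (E Fr k true)) ↔ (i : ℕ) + 1 ∉ D
  constructor
  · intro h hi
    exact (nn_StE_iff (Fr := Fr) hp0 i).1 (h i hi) rfl
  · intro hi k hk
    refine (nn_StE_iff (Fr := Fr) hp0 i).2 ?_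
    rintro rfl
    exact hi hk

include hA hp0 in
/-- **the flags (S4884, F-B).** -/
theorem flags_model (hn : 0 < n) (Sg : Sing Fr) (hS : ∀ v, H.h v v = 0 → Sg.S v) :
    Flags (TI H) M.I.subtype M.φ n
      (fun D j => PJ cs (isCartan n) (WittModel.T M) (WittModel.X M) (JB D j)) := by
  have : Module.Finite F V := Module.Finite.of_finite
  have : Finite (V ≃ₗ[F] V) := Finite.of_injective (fun g : V ≃ₗ[F] V => (g : V → V)) DFunLike.coe_injective
  have : Finite K := Finite.of_surjective M.φ (model_surjective M hn)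
  classical
  have hTS : ∀ U : Submodule F V, Sg.TS U ↔ TI H U := fun U => Sg.ts_iff hS
  have h00 : Sg.S 0 := hS 0 (H.zero_left 0)
  refine flags_of_orbits ?_ ?_ ?_ (model_surjective M hn) (ker_le_center M) _
    (fun D _ => D.image fun k => EE Fr k) ?_ ?_ ?_ ?_
  · intro u hu v _
    rw [(Submodule.mem_bot F).1 hu]
    exact H.zero_left v
  · intro U U' h hU u hu v hv
    exact hU u (h hu) v (h hv)
  · rintro g U hU _ ⟨u, hu, rfl⟩ _ ⟨v, hv, rfl⟩
    exact (hA.iso _ g.2 u v).trans (hU u hu v hv)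
  · intro D hD hN j
    refine ⟨?_, ?_, ?_⟩
    · intro U hU U' hU' _
      obtain ⟨k, -, rfl⟩ := Finset.mem_image.1 (Finset.mem_coe.1 hU)
      obtain ⟨k', -, rfl⟩ := Finset.mem_image.1 (Finset.mem_coe.1 hU')
      rcases le_total k k' with h | h
      · exact Or.inl (EE_mono h)
      · exact Or.inr (EE_mono h)
    · intro U hU
      obtain ⟨k, hk, rfl⟩ := Finset.mem_image.1 hU
      have hk1 := Finset.mem_Icc.1 (hD hk)
      refine ⟨(hTS _).1 (Sg.ts_EE h00), bot_lt_iff_ne_bot.2 fun h => ?_⟩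
      have h1 := finrank_EE (Fr := Fr) hk1.2
      rw [h, finrank_bot] at h1
      omega
    · rw [Finset.image_image]
      conv_rhs => rw [← Finset.image_id (s := D)]
      exact Finset.image_congr fun k hk => finrank_EE (Finset.mem_Icc.1 (hD hk)).2
  · intro D hD hN j g
    rw [← StF_eq_PJ M hA hp0 cs hn D j, phi_mem_StF]
    constructor
    · intro h U hU
      obtain ⟨k, hk, rfl⟩ := Finset.mem_image.1 hU
      have hk1 := Finset.mem_Icc.1 (hD hk)
      have e : k = ((⟨k - 1, by omega⟩ : Fin n) : ℕ) + 1 := by simp only; omega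
      have h1 := h ⟨k - 1, by omega⟩ (by rw [← e]; exact hk)
      rw [← EE_eq_E, ← e] at h1
      exact mem_StE_iff_map.1 h1
    · intro h k hk
      rw [← EE_eq_E]
      exact mem_StE_iff_map.2 (h _ (Finset.mem_image_of_mem _ hk))
  · intro D hD hN c hc
    obtain ⟨g, hg⟩ := Sg.chain_trans_model M (c : Set (Submodule F V)) hc.1
      (fun U hU => (hTS U).2 (hc.2.1 U hU).1)
      (fun U hU => by
        have h1 : Module.finrank F U ∈ D := by
          rw [← hc.2.2]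
          exact Finset.mem_image_of_mem _ hU
        exact (Finset.mem_Icc.1 (hD h1)).2) (Or.inl ⟨p0, hp0⟩)
    refine ⟨g, (), ?_⟩
    ext U
    rw [mem_im]
    constructor
    · intro hU
      refine ⟨EE Fr (Module.finrank F U), Finset.mem_image_of_mem _ ?_, hg U hU⟩
      rw [← hc.2.2]
      exact Finset.mem_image_of_mem _ hU
    · rintro ⟨U', hU', rfl⟩
      obtain ⟨k, hk, rfl⟩ := Finset.mem_image.1 hU'
      rw [← hc.2.2] at hk
      obtain ⟨U, hU, rfl⟩ := Finset.mem_image.1 hk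
      have h1 := hg U hU
      change (EE Fr (Module.finrank F U)).map (g.1 : V →ₗ[F] V) ∈ c
      rw [h1]
      exact hU
  · intro D _ _ j j' g _
    rfl

end model

end Cfsg.Agent.H749.PF
end

private theorem dce_8b6b2be2e531 : _root_.True := by
  try have : _root_.True := by simp only [_root_.Cfsg.Agent.H749.PF.kap.eq_1]
  try have : _root_.True := by simp only [_root_.Cfsg.Agent.H769.OZ.E.eq_1]
  try have : _root_.True := by simp only [_root_.Cfsg.Agent.H749.PF.EE.eq_1]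
  exact _root_.True.intro
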